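import Groth.Agent.GitQuot.StkSlice.Univ
import Groth.Agent.AlgStBasic.DiagCalc
import Groth.Agent.AlgStBasic.SpaceProps

/-!
# Representability read on charts given by schemes
-/

set_option autoImplicit false
set_option backward.isDefEq.respectTransparency false
set_option backward.isDefEq.respectTransparency.types false

universe u

open CategoryTheory CategoryTheory.Limits AlgebraicGeometry
open Groth.StkBase Groth.AlgStBasic

noncomputable section

namespace Groth.StkPieces

variable {S : Scheme.{u}}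

/-- A map of schemes with a stable property gives a functor of slices with that property. -/
theorem repWith_overMap_of_stable {P : MorphismProperty (AlgSp.Sp S)} (hb : StableBaseChange P)
    {U V : Over S} (g : U ⟶ V) (hg : P ((AlgSp.yon S).map g)) :
    AlgSt.RepByAlgSpWith P (AlgSt.overMap g) := by
  have h : AlgSt.RepByAlgSpWith P
      (BasedFunctor.comp (AlgSt.ofOverCat U)
        (BasedFunctor.comp (AlgSt.ofSpMap ((AlgSp.yon S).map g)) (AlgSt.toOverCat V))) :=
    (repWith_precomp_equiv (isEquivOver_ofOverCat U) _).2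
      ((repWith_postcomp_equiv _ (isEquivOver_toOverCat V)).2
        (repWith_ofPshMap_of_stable (F := ⟨_, AlgSp.IsAlgSpace.yon_obj U⟩)
          (G := ⟨_, AlgSp.IsAlgSpace.yon_obj V⟩) hb _ hg))
  exact h

/-- Representability by schemes with a property gives representability by algebraic spaces. -/
theorem repWith_of_charts {P : MorphismProperty (AlgSp.Sp S)} {𝒳 𝒴 : AlgSt.Cat S} {f : 𝒳 ⥤ᵇ 𝒴}
    (h : ∀ (U : Over S) (y : FibCat.overCat U ⥤ᵇ 𝒴), ∃ (X : Over S) (g : X ⟶ U)
      (L : FibCat.overCat X ⥤ᵇ FibCat.fp y f), FibCat.IsEquivOver L ∧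
        Nonempty (BasedFunctor.comp L (FibCat.fpFst y f) ≅ AlgSt.overMap g) ∧
        P ((AlgSp.yon S).map g)) :
    AlgSt.RepByAlgSpWith P f := fun U y => by
  obtain ⟨X, g, L, hL, ⟨α⟩, hg⟩ := h U y
  refine ⟨⟨(AlgSp.yon S).obj X, AlgSp.IsAlgSpace.yon_obj X⟩, BasedFunctor.comp (AlgSt.toOverCat X) L,
    isEquivOver_comp (isEquivOver_toOverCat X) hL, ?_⟩
  have e := spMapOfOver_congr (whiskerLeftIso (AlgSt.toOverCat X) α)
  exact (e.trans (spMapOfOver_toOverCat g)) ▸ hg

variable {X : Over S} {𝒵 : AlgSt.Cat S}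

/-- An equivalence from a slice category makes the universal object terminal. -/
theorem unique_hom_of_isEquivOver {L : FibCat.overCat X ⥤ᵇ 𝒵} (hL : FibCat.IsEquivOver L) (z : 𝒵.obj) :
    ∃! χ : z ⟶ L.obj (idObj X), True := by
  have := full_of_isEquivOver hL
  have := faithful_of_isEquivOver hL
  obtain ⟨a, e, -⟩ := exists_vert_preimage hL z
  refine ⟨e.inv ≫ L.map (toId a), trivial, fun χ _ => ?_⟩
  have key : e.hom ≫ χ = L.map (toId a) := by
    let t := L.toFunctor.preimage (e.hom ≫ χ)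
    have ht : t = toId a := by
      apply Over.OverMorphism.ext
      have h1 := Over.w t
      have h2 := Over.w (toId a)
      rw [show (idObj X).hom = 𝟙 X from rfl] at h1 h2
      exact ((Category.comp_id _).symm.trans h1).trans ((Category.comp_id _).symm.trans h2).symm
    rw [← ht]
    exact (L.toFunctor.map_preimage _).symm
  rw [← key, Iso.inv_hom_id_assoc]

/-- A terminal object in a category fibred in setoids gives an equivalence from a slice category. -/
theorem isEquivOver_of_isTerminal (hZ : FibCat.IsFibSetoid 𝒵.p) {z₀ : 𝒵.obj} (h₀ : 𝒵.p.obj z₀ = X)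
    (h : ∀ z : 𝒵.obj, ∃! χ : z ⟶ z₀, True) :
    ∃ L : FibCat.overCat X ⥤ᵇ 𝒵, FibCat.IsEquivOver L ∧
      ∃ i : L.obj (idObj X) ≅ z₀, IsVert 𝒵.p i.hom := by
  let L := overFunctor hZ.1 z₀ h₀
  obtain ⟨i, hi⟩ := overFunctor_eval hZ.1 z₀ h₀
  refine ⟨L, Groth.StkSlice.isEquivOver_of_universal hZ L h₀ i hi fun z => ?_, i, hi⟩
  obtain ⟨χ, -, hu⟩ := h z
  refine ⟨𝒵.p.map χ ≫ eqToHom h₀, ⟨χ, by simp⟩, ?_⟩
  rintro q ⟨φ, hφ⟩
  rw [← hu φ trivial, hφ]
  simp

end Groth.StkPieces
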