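import Groth.Agent.GitQuot.StkPieces.Chart
import Groth.Agent.GitQuot.QSplit.Classify

/-!
# The stack of finite pieces of a separated quasi-finite scheme chart
-/

set_option autoImplicit false
set_option backward.isDefEq.respectTransparency false
set_option backward.isDefEq.respectTransparency.types false

universe u

open CategoryTheory CategoryTheory.Limits AlgebraicGeometry
open Groth.StkBase Groth.FppfBoot

noncomputable section

namespace Groth.StkPieces

section Classify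

variable {W U : Scheme.{u}} {f : W ⟶ U} (P : QSplit.PieceData f)

/-- The comparison with the base change to the scheme of pieces. -/
def clMap {X' T : Scheme.{u}} {g' : X' ⟶ W} {f' : X' ⟶ T} {a : T ⟶ U} (sq : IsPullback g' f' f a)
    (l : T ⟶ P.H) (h : l ≫ P.π = a) : X' ⟶ pullback f P.π :=
  pullback.lift g' (f' ≫ l) (by rw [Category.assoc, h, sq.w])

theorem clMap_eq {X' T : Scheme.{u}} {g' : X' ⟶ W} {f' : X' ⟶ T} {a : T ⟶ U}
    (sq : IsPullback g' f' f a) (l : T ⟶ P.H) (h : l ≫ P.π = a) :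
    clMap P sq l h = sq.isoPullback.hom ≫ QSplit.pb f l h :=
  pullback.hom_ext (by simp [clMap]) (by simp [clMap])

theorem isPiece_clMap {X' T : Scheme.{u}} {g' : X' ⟶ W} {f' : X' ⟶ T} {a : T ⟶ U}
    (sq : IsPullback g' f' f a) (l : T ⟶ P.H) (h : l ≫ P.π = a) :
    IsPiece f' (clMap P sq l h ⁻¹ᵁ P.Z) := by
  refine P.piece.preimage (g := l) (IsPullback.of_right ?_ (pullback.lift_snd _ _ _)
    (IsPullback.of_hasPullback f P.π))
  rw [pullback.lift_fst, h]
  exact sq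

theorem clMap_exists {X' T : Scheme.{u}} {g' : X' ⟶ W} {f' : X' ⟶ T} {a : T ⟶ U}
    (sq : IsPullback g' f' f a) (Z : X'.Opens) (hZ : IsPiece f' Z) :
    ∃ (l : T ⟶ P.H) (h : l ≫ P.π = a), clMap P sq l h ⁻¹ᵁ P.Z = Z := by
  obtain ⟨l, h, e⟩ := P.lift' a (sq.isoPullback.inv ⁻¹ᵁ Z) (hZ.preimage (g := 𝟙 T)
    (IsPullback.of_horiz_isIso ⟨by rw [Category.comp_id, sq.isoPullback_inv_snd]⟩))
  refine ⟨l, h, ?_⟩
  rw [clMap_eq, Scheme.Hom.comp_preimage, e, ← Scheme.Hom.comp_preimage, Iso.hom_inv_id]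
  rfl

theorem clMap_inj {X' T : Scheme.{u}} {g' : X' ⟶ W} {f' : X' ⟶ T} {a : T ⟶ U}
    (sq : IsPullback g' f' f a) (l l' : T ⟶ P.H) (h : l ≫ P.π = a) (h' : l' ≫ P.π = a)
    (e : clMap P sq l h ⁻¹ᵁ P.Z = clMap P sq l' h' ⁻¹ᵁ P.Z) : l = l' := by
  refine P.ext' a l l' h h' ?_
  have := congrArg (sq.isoPullback.inv ⁻¹ᵁ ·) e
  simpa only [clMap_eq, ← Scheme.Hom.comp_preimage, Iso.inv_hom_id_assoc] using this

end Classify

variable {S : Scheme.{u}} {𝒳 : AlgSt.Cat S} {V : Over S} {v : FibCat.overCat V ⥤ᵇ 𝒳}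

/-- Universal points with separated flat locally quasi-finite surjective structure maps. -/
structure GoodPts (v : FibCat.overCat V ⥤ᵇ 𝒳) where
  /-- the points -/
  D : UPts v
  separated : ∀ ξ, IsSeparated (D ξ).π.left
  flat : ∀ ξ, Flat (D ξ).π.left
  lfp : ∀ ξ, LocallyOfFinitePresentation (D ξ).π.left
  lqf : ∀ ξ, LocallyQuasiFinite (D ξ).π.left
  surjective : ∀ ξ, Surjective (D ξ).π.left

theorem exists_goodPts (hX : FibCat.IsFibGrpd 𝒳.p)
    (hΔ : AlgSt.RepByAlgSpWith AlgSp.IsSeparatedMor (FibCat.diag (FibCat.toSelf 𝒳)))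
    [IsSeparated V.hom]
    (hv : AlgSt.RepByAlgSpWith
      (AlgSp.LocP (@Flat ⊓ @LocallyOfFinitePresentation ⊓ @LocallyQuasiFinite) ⊓
        AlgSp.IsSurjectiveMor) v) : Nonempty (GoodPts v) := by
  have key : ∀ ξ, ∃ D : UPt v ξ, IsSeparated D.π.left ∧ Flat D.π.left ∧
      LocallyOfFinitePresentation D.π.left ∧ LocallyQuasiFinite D.π.left ∧ Surjective D.π.left := by
    intro ξ
    obtain ⟨X, π, L, hL, ⟨α⟩, h₁, h₂, h₃, h₄, h₅⟩ :=
      exists_fp_chart hX hΔ v hv (overFunctor hX ξ (rfl : 𝒳.p.obj ξ = 𝒳.p.obj ξ))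
    obtain ⟨D, e, he⟩ := exists_uPt hX π L hL α
    have : D.π.left = e.inv.left ≫ π.left := by rw [← Over.comp_left, ← he, e.inv_hom_id_assoc]
    refine ⟨D, ?_⟩
    rw [this]
    exact ⟨inferInstance, inferInstance, inferInstance, inferInstance, inferInstance⟩
  choose D h₁ h₂ h₃ h₄ h₅ using key
  exact ⟨⟨D, h₁, h₂, h₃, h₄, h₅⟩⟩

variable (G : GoodPts v)

/-- An object with a piece of its scheme of points. -/
structure PObj where
  /-- the object -/
  obj : 𝒳.obj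
  /-- the piece -/
  piece : (G.D obj).g.left.left.Opens
  isPiece : IsPiece (G.D obj).π.left piece

namespace PObj

variable {G}

/-- Morphisms of objects with pieces. -/
@[ext]
structure Hom (a b : PObj G) where
  /-- the underlying morphism -/
  hom : a.obj ⟶ b.obj
  map_piece : (ptMap G.D hom).left.left ⁻¹ᵁ b.piece = a.piece

instance : Category (PObj G) where
  Hom := Hom
  id a := ⟨𝟙 a.obj, by rw [ptMap_id]; rfl⟩
  comp f g := ⟨f.hom ≫ g.hom, by
    rw [ptMap_comp, Over.comp_left, Over.comp_left, Scheme.Hom.comp_preimage, g.map_piece, f.map_piece]⟩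
  id_comp f := Hom.ext (Category.id_comp _)
  comp_id f := Hom.ext (Category.comp_id _)
  assoc f g h := Hom.ext (Category.assoc _ _ _)

@[ext] theorem hom_ext {a b : PObj G} {f g : a ⟶ b} (h : f.hom = g.hom) : f = g := Hom.ext h

@[simp] theorem id_hom (a : PObj G) : (𝟙 a : a ⟶ a).hom = 𝟙 a.obj := rfl

@[simp] theorem comp_hom {a b c : PObj G} (f : a ⟶ b) (g : b ⟶ c) :
    (f ≫ g).hom = f.hom ≫ g.hom := rfl

variable (G) in
/-- Forgetting the piece. -/
def forget : PObj G ⥤ 𝒳.obj where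
  obj a := a.obj
  map f := f.hom

end PObj

/-- The stack of pieces. -/
abbrev pieceCat : AlgSt.Cat S where
  obj := PObj G
  p := PObj.forget G ⋙ 𝒳.p

/-- The functor forgetting the piece. -/
def pieceForget : pieceCat G ⥤ᵇ 𝒳 where
  toFunctor := PObj.forget G
  w := rfl

instance : (pieceForget G).toFunctor.Faithful := ⟨fun {_ _} _ _ h => PObj.hom_ext h⟩

theorem isPullback_ptMap_scheme (hX : FibCat.IsFibGrpd 𝒳.p) {ξ' ξ : 𝒳.obj} (f : ξ' ⟶ ξ) :
    IsPullback (ptMap G.D f).left.left (G.D ξ').π.left (G.D ξ).π.left (𝒳.p.map f).left :=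
  (isPullback_ptMap G.D hX f).map (Over.forget S)

/-- The pullback of an object with a piece. -/
def pullPiece (hX : FibCat.IsFibGrpd 𝒳.p) {ξ' : 𝒳.obj} (x : PObj G) (f : ξ' ⟶ x.obj) : PObj G :=
  ⟨ξ', (ptMap G.D f).left.left ⁻¹ᵁ x.piece, x.isPiece.preimage (isPullback_ptMap_scheme G hX f)⟩

theorem isFibGrpd_pieceCat (hX : FibCat.IsFibGrpd 𝒳.p) : FibCat.IsFibGrpd (pieceCat G).p := by
  refine isFibGrpd_mk (fun {x W} f => ?_) (fun {z y x} φ ψ g hg => ?_)
  · obtain ⟨ξ', φ, h, e⟩ := exists_lift' hX (x := x.obj) f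
    exact ⟨pullPiece G hX x φ, ⟨φ, rfl⟩, h, e⟩
  · let χ := factor hX φ.hom ψ.hom g hg
    have hc : χ ≫ φ.hom = ψ.hom := factor_comp hX _ _ _ hg
    have hp : (ptMap G.D χ).left.left ⁻¹ᵁ y.piece = z.piece := by
      rw [← φ.map_piece, ← ψ.map_piece, ← hc, ptMap_comp, Over.comp_left, Over.comp_left,
        Scheme.Hom.comp_preimage]
    refine ⟨⟨χ, hp⟩, ⟨factor_map hX _ _ _ hg, PObj.hom_ext hc⟩, ?_⟩
    rintro χ' ⟨h1, h2⟩
    apply PObj.hom_ext
    refine hom_eq_of_comp_eq hX φ.hom ?_ ?_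
    · exact h1.trans (factor_map hX _ _ _ hg).symm
    · exact (congrArg PObj.Hom.hom h2).trans hc.symm

end Groth.StkPieces
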