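import Groth.Agent.GitQuot.StkPieces.Rep
import Groth.Agent.AlgStCover.WellNighAffine

/-!
# A scheme, finite locally free and surjective over the stack of pieces
-/

set_option autoImplicit false
set_option backward.isDefEq.respectTransparency false
set_option backward.isDefEq.respectTransparency.types false

universe u

open CategoryTheory CategoryTheory.Limits AlgebraicGeometry
open Groth.StkBase Groth.FppfBoot Groth.AlgStBasic

noncomputable section

namespace Groth.StkPieces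

variable {S : Scheme.{u}} {𝒳 : AlgSt.Cat S} {V : Over S} {v : FibCat.overCat V ⥤ᵇ 𝒳}
  (G : GoodPts v)

/-- The point of the scheme of points given by an object of the fibre product. -/
def mpt (Q : (FibCat.fp v (pieceForget G)).obj) : Q.obj.fst ⟶ (G.D Q.obj.snd.obj).g :=
  ((G.D Q.obj.snd.obj).univ Q.obj.fst Q.obj.iso.hom).choose

theorem mpt_φ (Q : (FibCat.fp v (pieceForget G)).obj) :
    v.map (mpt G Q) ≫ (G.D Q.obj.snd.obj).φ = Q.obj.iso.hom :=
  ((G.D Q.obj.snd.obj).univ Q.obj.fst Q.obj.iso.hom).choose_spec.1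

theorem mpt_ptMap (Q : (FibCat.fp v (pieceForget G)).obj) {ξ : 𝒳.obj} (f : Q.obj.snd.obj ⟶ ξ) :
    v.map (mpt G Q ≫ ptMap G.D f) ≫ (G.D ξ).φ = Q.obj.iso.hom ≫ f := by
  rw [Functor.map_comp, Category.assoc, ptMap_φ, ← Category.assoc, mpt_φ]

theorem mpt_natural {Q Q' : (FibCat.fp v (pieceForget G)).obj} (χ : Q ⟶ Q') :
    mpt G Q ≫ ptMap G.D χ.hom.snd.hom = χ.hom.fst ≫ mpt G Q' := by
  refine ((G.D Q'.obj.snd.obj).univ Q.obj.fst (Q.obj.iso.hom ≫ χ.hom.snd.hom)).unique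
    (mpt_ptMap G Q _) ?_
  rw [Functor.map_comp, Category.assoc, mpt_φ]
  exact χ.hom.w

/-- The point lies in the piece. -/
def Mem (Q : (FibCat.fp v (pieceForget G)).obj) : Prop :=
  Set.range (mpt G Q).left.left ⊆ (Q.obj.snd.piece : Set _)

theorem range_comp_subset_iff {A B C : Scheme.{u}} (a : A ⟶ B) (b : B ⟶ C) (P : C.Opens) :
    Set.range (a ≫ b) ⊆ (P : Set C) ↔ Set.range a ⊆ (b ⁻¹ᵁ P : Set B) := by
  constructor
  · rintro h _ ⟨t, rfl⟩
    exact h ⟨t, (Scheme.Hom.comp_apply _ _ _)⟩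
  · rintro h _ ⟨t, rfl⟩
    rw [Scheme.Hom.comp_apply]
    exact h ⟨t, rfl⟩

theorem mem_iff {Q Q' : (FibCat.fp v (pieceForget G)).obj} (χ : Q ⟶ Q') :
    Mem G Q ↔ Set.range χ.hom.fst.left.left ⊆
      ((mpt G Q').left.left ⁻¹ᵁ Q'.obj.snd.piece : Set _) := by
  rw [← range_comp_subset_iff, ← Over.comp_left, ← Over.comp_left, ← mpt_natural, Over.comp_left,
    Over.comp_left, range_comp_subset_iff, χ.hom.snd.map_piece]
  rfl

theorem exists_finite_cover (hX : FibCat.IsFibGrpd 𝒳.p) [IsSeparated V.hom] :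
    ∃ (Z : Over S) (z : FibCat.overCat Z ⥤ᵇ FibCat.fp v (pieceForget G)),
      IsSeparated Z.hom ∧ AlgSt.IsOpenImm z ∧ ∀ (T : Over S) (y : FibCat.overCat T ⥤ᵇ pieceCat G),
        ∃ (X : Over S) (τ : X ⟶ T)
          (L : FibCat.overCat X ⥤ᵇ FibCat.fp y (BasedFunctor.comp z (FibCat.fpSnd v (pieceForget G)))),
          FibCat.IsEquivOver L ∧ Nonempty (BasedFunctor.comp L (FibCat.fpFst _ _) ≅ AlgSt.overMap τ) ∧
            IsFinite τ.left ∧ Flat τ.left ∧ LocallyOfFinitePresentation τ.left ∧ Surjective τ.left := by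
  obtain ⟨H, τH, L, hL, -, -, hτH, -⟩ := exists_piece_chart G hX v
  let zL := L.obj (idObj H)
  have eL : zL.obj.fst.left = H := L.w_obj (idObj H)
  have hW := isFibGrpd_pieceCat G hX
  have hfp : FibCat.IsFibSetoid (FibCat.fp v (pieceForget G)).p :=
    isFibSetoid_fp_of_faithful hW hX (pieceForget G) v
  let O : H.left.Opens := (eqToHom eL.symm ≫ (mpt G zL).left).left ⁻¹ᵁ zL.obj.snd.piece
  have memO : ∀ {Q : (FibCat.fp v (pieceForget G)).obj} (χ : Q ⟶ zL),
      Mem G Q ↔ Set.range ((FibCat.fp v (pieceForget G)).p.map χ ≫ eqToHom eL).left ⊆ (O : Set _) := by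
    intro Q χ
    rw [mem_iff G χ, ← range_comp_subset_iff, ← range_comp_subset_iff, ← Over.comp_left, ← Over.comp_left]
    show _ ↔ Set.range ((χ.hom.fst.left ≫ eqToHom eL) ≫ eqToHom eL.symm ≫ (mpt G zL).left).left ⊆ _
    rw [Category.assoc, eqToHom_trans_assoc, eqToHom_refl, Category.id_comp]
    exact Iff.rfl
  let OB : Over S := Over.mk (O.ι ≫ H.hom)
  let ι : OB ⟶ H := Over.homMk O.ι rfl
  have : IsOpenImmersion ι.left := inferInstanceAs (IsOpenImmersion O.ι)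
  let zc := BasedFunctor.comp (AlgSt.overMap ι) L
  have hsep : IsSeparated OB.hom := by
    have : IsSeparated H.hom := by rw [← Over.w τH]; infer_instance
    exact inferInstanceAs (IsSeparated (O.ι ≫ H.hom))
  refine ⟨OB, zc, hsep, (repWith_postcomp_equiv _ hL).2 (repWith_overMap_of_stable (stableBaseChange_repWith _) ι
    ((AlgSp.repWith_yon_map_iff _ ι).2 inferInstance)), fun T y => ?_⟩
  let w := BasedFunctor.comp zc (FibCat.fpSnd v (pieceForget G))
  let E₁ := y.obj (idObj T)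
  let ξ := E₁.obj
  have eT : 𝒳.p.obj ξ = T := y.w_obj (idObj T)
  let Pc : Over S := Over.mk (E₁.piece.ι ≫ (G.D ξ).g.left.hom)
  let ιP : Pc ⟶ (G.D ξ).g.left := Over.homMk E₁.piece.ι rfl
  have : IsOpenImmersion ιP.left := inferInstanceAs (IsOpenImmersion E₁.piece.ι)
  let τ : Pc ⟶ T := ιP ≫ (G.D ξ).π ≫ eqToHom eT
  let gP : (FibCat.overCat V).obj := Over.mk (ιP ≫ (G.D ξ).g.hom)
  let nP : gP ⟶ (G.D ξ).g := Over.homMk ιP rfl
  let E := y.obj (Over.mk τ)
  let ψE : E ⟶ E₁ := y.map (toId (Over.mk τ))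
  have hψE : 𝒳.p.map ψE.hom = eqToHom (y.w_obj (Over.mk τ)) ≫ τ ≫ eqToHom eT.symm := map_map y _
  obtain ⟨j, hj, hjj⟩ := exists_vert_iso_of_lifts hX (v.map nP ≫ (G.D ξ).φ) ψE.hom
    ((v.w_obj gP).trans (y.w_obj (Over.mk τ)).symm) (by
      rw [hψE, Functor.map_comp, map_map]
      have e : (FibCat.overCat V).p.map nP = ιP := rfl
      rw [e]
      simp [τ, UPt.π])
  let Q₀ : (FibCat.fp v (pieceForget G)).obj := fpMk (F := v) (G := pieceForget G) gP E j hj
  have hQ₀ : mpt G Q₀ ≫ ptMap G.D ψE.hom = nP := by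
    refine ((G.D ξ).univ gP (v.map nP ≫ (G.D ξ).φ)).unique ?_ rfl
    exact (mpt_ptMap G Q₀ _).trans hjj
  have hmem₀ : Mem G Q₀ := by
    have h := (range_comp_subset_iff (mpt G Q₀).left.left (ptMap G.D ψE.hom).left.left E₁.piece).1 (by
      rw [← Over.comp_left, ← Over.comp_left, hQ₀]
      rintro _ ⟨t, rfl⟩
      exact t.2)
    rw [ψE.map_piece] at h
    exact h
  obtain ⟨χ₀, -, -⟩ := unique_hom_of_isEquivOver hL Q₀
  have hr₀ := (memO χ₀).1 hmem₀
  rw [show (O : Set _) = Set.range ι.left from (Scheme.Opens.range_ι O).symm] at hr₀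
  let κ₀ : Pc ⟶ H := (FibCat.fp v (pieceForget G)).p.map χ₀ ≫ eqToHom eL
  let o₀ : Pc ⟶ OB := Over.homMk (IsOpenImmersion.lift ι.left κ₀.left hr₀) (by
    show _ ≫ ι.left ≫ H.hom = _
    rw [IsOpenImmersion.lift_fac_assoc]
    exact Over.w κ₀)
  have ho₀ : o₀ ≫ ι = κ₀ := Over.OverMorphism.ext (IsOpenImmersion.lift_fac _ _ _)
  let B₀ : (FibCat.overCat OB).obj := Over.mk o₀
  let Φ := fun B : (FibCat.overCat OB).obj => zc.obj B
  have hΦ : ∀ B : (FibCat.overCat OB).obj,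
      (FibCat.fp v (pieceForget G)).p.map (L.map (toId ((AlgSt.overMap ι).obj B)) : Φ B ⟶ zL) ≫ eqToHom eL =
        eqToHom (zc.w_obj B) ≫ B.hom ≫ ι := fun B => by
    have e : (FibCat.overCat H).p.map (toId ((AlgSt.overMap ι).obj B)) = B.hom ≫ ι := rfl
    rw [map_map, e]
    simp
  obtain ⟨k, hk, hkk⟩ := exists_vert_iso_of_lifts hfp.1 χ₀
    (L.map (toId ((AlgSt.overMap ι).obj B₀)) : Φ B₀ ⟶ zL) (zc.w_obj B₀).symm (by
      rw [← cancel_mono (eqToHom eL), Category.assoc, hΦ, eqToHom_trans_assoc, eqToHom_refl,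
        Category.id_comp]
      exact ho₀.symm)
  let j₂ : y.obj (Over.mk τ) ≅ w.obj B₀ := (FibCat.fpSnd v (pieceForget G)).toFunctor.mapIso k
  have hj₂ : IsVert (pieceCat G).p j₂.hom := isVert_map (F := FibCat.fpSnd v (pieceForget G)) hk
  let z₀ : (FibCat.fp y w).obj := fpMk (F := y) (G := w) (Over.mk τ) B₀ j₂ hj₂
  have hterm : ∀ z : (FibCat.fp y w).obj, ∃! χ : z ⟶ z₀, True := by
    intro z
    have hz := fp_p_snd z
    obtain ⟨⟨⟨T', ⟨⟨⟩⟩, a⟩, ⟨T'', ⟨⟨⟩⟩, o⟩, e⟩, he⟩ := z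
    obtain rfl : T'' = T' := hz
    have hev : 𝒳.p.map e.inv.hom = eqToHom (fp_isVert (F := y) (G := w) ⟨_, he⟩).obj_eq.symm :=
      (IsVert.inv (fp_isVert (F := y) (G := w) ⟨_, he⟩)).map_eq
    let A : (FibCat.overCat T).obj := Over.mk a
    let B : (FibCat.overCat OB).obj := Over.mk o
    let ΦB := Φ B
    have eB : ΦB.obj.fst.left = T'' := zc.w_obj B
    have hmemB : Mem G ΦB := by
      refine (memO (L.map (toId ((AlgSt.overMap ι).obj B)) : ΦB ⟶ zL)).2 ?_
      rw [hΦ B]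
      rintro _ ⟨t, rfl⟩
      exact (o.left ((eqToHom (zc.w_obj B)).left t)).2
    let f : ΦB.obj.snd ⟶ E₁ := e.inv ≫ y.map (toId A)
    let mB : ΦB.obj.fst ⟶ (G.D ξ).g := mpt G ΦB ≫ ptMap G.D f.hom
    have hmB : Set.range mB.left.left ⊆ (E₁.piece : Set _) := by
      rw [Over.comp_left, Over.comp_left, range_comp_subset_iff, f.map_piece]
      exact hmemB
    have hmB' : Set.range (eqToHom eB.symm ≫ mB.left).left ⊆ Set.range ιP.left := by
      rw [show Set.range ιP.left = (E₁.piece : Set _) from Scheme.Opens.range_ι _]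
      rintro _ ⟨t, rfl⟩
      exact hmB ⟨_, (Scheme.Hom.comp_apply _ _ _).symm⟩
    let q : T'' ⟶ Pc := Over.homMk (IsOpenImmersion.lift ιP.left (eqToHom eB.symm ≫ mB.left).left hmB') (by
      show _ ≫ ιP.left ≫ (G.D ξ).g.left.hom = _
      rw [IsOpenImmersion.lift_fac_assoc]
      exact Over.w (eqToHom eB.symm ≫ mB.left))
    have hq : q ≫ ιP = eqToHom eB.symm ≫ mB.left :=
      Over.OverMorphism.ext (IsOpenImmersion.lift_fac _ _ _)
    have hqτ : q ≫ τ = a := by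
      have h : 𝒳.p.map (v.map mB) ≫ 𝒳.p.map (G.D ξ).φ =
          𝒳.p.map ΦB.obj.iso.hom ≫ 𝒳.p.map f.hom :=
        (𝒳.p.map_comp _ _).symm.trans
          ((congrArg (fun t => 𝒳.p.map t) (mpt_ptMap G ΦB f.hom)).trans (𝒳.p.map_comp _ _))
      have e₁ : 𝒳.p.map f.hom = 𝒳.p.map e.inv.hom ≫ 𝒳.p.map (y.map (toId A)).hom := 𝒳.p.map_comp _ _
      have e₂ : 𝒳.p.map (y.map (toId A)).hom = eqToHom (y.w_obj A) ≫ a ≫ eqToHom eT.symm := map_map y _
      have e₃ : (FibCat.overCat V).p.map mB = mB.left := rfl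
      rw [map_map, (fp_isVert ΦB).map_eq, e₁, e₂, hev, e₃] at h
      simp only [Category.assoc, eqToHom_comp_iff, eqToHom_trans_assoc] at h
      rw [show q ≫ τ = (q ≫ ιP) ≫ (G.D ξ).π ≫ eqToHom eT from (Category.assoc _ _ _).symm, hq]
      simp only [UPt.π, Category.assoc]
      rw [reassoc_of% h]
      simp
    let n₁ : A ⟶ Over.mk τ := Over.homMk q hqτ
    let nF : ΦB.obj.fst ⟶ gP := Over.homMk (eqToHom eB ≫ q) (by
      show (eqToHom eB ≫ q) ≫ ιP ≫ (G.D ξ).g.hom = _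
      rw [Category.assoc, reassoc_of% hq, eqToHom_trans_assoc, eqToHom_refl, Category.id_comp]
      exact Over.w mB)
    have hnF : nF ≫ nP = mB := Over.OverMorphism.ext (by
      show (eqToHom eB ≫ q) ≫ ιP = mB.left
      rw [Category.assoc, hq, eqToHom_trans_assoc, eqToHom_refl, Category.id_comp])
    let sF : ΦB.obj.snd ⟶ E := e.inv ≫ y.map n₁
    have hsF : sF ≫ ψE = f := by
      show (e.inv ≫ y.map n₁) ≫ y.map _ = e.inv ≫ y.map _
      rw [Category.assoc, ← Functor.map_comp, toId_naturality]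
      rfl
    have hwF : v.map nF ≫ Q₀.obj.iso.hom = ΦB.obj.iso.hom ≫ (pieceForget G).map sF := by
      apply hom_eq_of_comp_eq hX ψE.hom
      · have e₁ : 𝒳.p.map sF.hom = 𝒳.p.map e.inv.hom ≫ 𝒳.p.map (y.map n₁).hom := 𝒳.p.map_comp _ _
        have e₂ : 𝒳.p.map (y.map n₁).hom = eqToHom (y.w_obj A) ≫ q ≫ eqToHom (y.w_obj (Over.mk τ)).symm :=
          map_map y _
        have e₃ : (FibCat.overCat V).p.map nF = eqToHom eB ≫ q := rfl
        show 𝒳.p.map (v.map nF ≫ j.hom) = 𝒳.p.map (ΦB.obj.iso.hom ≫ sF.hom)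
        rw [Functor.map_comp, Functor.map_comp, map_map, hj.map_eq, (fp_isVert ΦB).map_eq, e₁, e₂, hev, e₃]
        simp
      · show (v.map nF ≫ j.hom) ≫ ψE.hom = (ΦB.obj.iso.hom ≫ sF.hom) ≫ ψE.hom
        rw [Category.assoc, hjj, ← Category.assoc, ← Functor.map_comp, hnF, mpt_ptMap, Category.assoc]
        exact congrArg (ΦB.obj.iso.hom ≫ ·) (congrArg PObj.Hom.hom hsF).symm
    let χB : ΦB ⟶ Q₀ := fpHom (F := v) (G := pieceForget G) nF sF hwF
    have hχB : (FibCat.fp v (pieceForget G)).p.map χB = eqToHom eB ≫ q := rfl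
    have hqo : q ≫ o₀ = o := by
      obtain ⟨u, -, hu⟩ := unique_hom_of_isEquivOver hL ΦB
      have e' : χB ≫ χ₀ = (L.map (toId ((AlgSt.overMap ι).obj B)) : ΦB ⟶ zL) :=
        (hu _ trivial).trans (hu _ trivial).symm
      have h := congrArg (fun t => (FibCat.fp v (pieceForget G)).p.map t ≫ eqToHom eL) e'
      simp only [Functor.map_comp, Category.assoc, hΦ, hχB] at h
      have h' : q ≫ κ₀ = o ≫ ι := (cancel_epi (eqToHom eB)).1 h
      rw [← ho₀, ← Category.assoc] at h'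
      exact Over.OverMorphism.ext ((cancel_mono ι.left).1 (congrArg Over.Hom.left h'))
    let n₂ : B ⟶ B₀ := Over.homMk q hqo
    have hkB : χB ≫ k.hom = zc.map n₂ := Groth.StkSlice.hom_eq_of_map_eq hfp (by
      rw [Functor.map_comp, hχB, hk.map_eq, map_map]
      have e' : (FibCat.overCat OB).p.map n₂ = q := rfl
      rw [e']
      simp)
    have hw₂ : y.map n₁ ≫ j₂.hom = e.hom ≫ w.map n₂ := by
      have h : (e.inv ≫ y.map n₁) ≫ j₂.hom = w.map n₂ :=
        congrArg (fun t : ΦB ⟶ Φ B₀ => t.hom.snd) hkB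
      rw [← h]
      simp
    refine ⟨fpHom (F := y) (G := w) n₁ n₂ hw₂, trivial, fun χ _ => ?_⟩
    let q' : T'' ⟶ Pc := χ.hom.fst.left
    have h₂ : χ.hom.snd.left = q' := by
      have := fp_map_snd χ
      rw [show (FibCat.overCat T).p.map χ.hom.fst = q' from rfl] at this
      exact this.trans ((Category.id_comp _).trans (Category.comp_id q'))
    have hq' : q' = q := by
      let θ : ΦB ⟶ Q₀ := zc.map χ.hom.snd ≫ k.inv
      have hθp : θ.hom.fst.left = eqToHom eB ≫ q' := by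
        show (FibCat.fp v (pieceForget G)).p.map θ = _
        rw [Functor.map_comp, map_map, (IsVert.inv hk).map_eq,
          show (FibCat.overCat OB).p.map χ.hom.snd = q' from h₂]
        simp
      have hθs : θ.hom.snd = e.inv ≫ y.map χ.hom.fst := by
        show w.map χ.hom.snd ≫ j₂.inv = _
        rw [Iso.comp_inv_eq, Category.assoc]
        exact (Iso.eq_inv_comp _).2 χ.hom.w.symm
      have hθ : θ.hom.fst ≫ nP = mB := by
        refine ((G.D ξ).univ ΦB.obj.fst (ΦB.obj.iso.hom ≫ f.hom)).unique ?_ (mpt_ptMap G ΦB f.hom)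
        have hfn : θ.hom.snd.hom ≫ ψE.hom = f.hom := by
          rw [← PObj.comp_hom, hθs]
          exact congrArg PObj.Hom.hom ((Category.assoc _ _ _).trans
            (congrArg (e.inv ≫ ·) ((y.toFunctor.map_comp _ _).symm.trans
              (congrArg (fun t => y.map t) (toId_naturality χ.hom.fst)))))
        rw [Functor.map_comp, Category.assoc, ← hjj, ← Category.assoc, ← hfn, ← Category.assoc]
        exact congrArg (· ≫ ψE.hom) θ.hom.w
      have h := congrArg (fun t : ΦB.obj.fst ⟶ (G.D ξ).g => t.left) hθ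
      change θ.hom.fst.left ≫ ιP = mB.left at h
      rw [hθp, Category.assoc] at h
      have h' : q' ≫ ιP = q ≫ ιP := by
        rw [hq, ← h, eqToHom_trans_assoc, eqToHom_refl, Category.id_comp]
      exact Over.OverMorphism.ext ((cancel_mono ιP.left).1 (congrArg Over.Hom.left h'))
    exact fp_hom_ext (Over.OverMorphism.ext hq') (Over.OverMorphism.ext (h₂.trans hq'))
  obtain ⟨L', hL', i, hi⟩ := isEquivOver_of_isTerminal (X := Pc)
    (fp_isFibSetoid (isFibSetoid_overCat T) (isFibSetoid_overCat OB) hW) (z₀ := z₀) rfl hterm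
  refine ⟨Pc, τ, L', hL', ?_, ?_⟩
  · refine (nonempty_overIso_iff (isFibGrpd_overCat T) _ _).2 ⟨i.hom.hom.fst ≫ eqToHom ?_, ?_⟩
    · exact congrArg Over.mk (Category.id_comp _).symm
    · exact ((isVert_fp_iff i.hom).1 hi).comp (isVert_eqToHom _)
  · have : IsIso (eqToHom eT).left := inferInstanceAs (IsIso ((Over.forget S).map (eqToHom eT)))
    have eτ : τ.left = (E₁.piece.ι ≫ (G.D ξ).π.left) ≫ (eqToHom eT).left := (Category.assoc _ _ _).symm
    have := G.flat ξ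
    have := G.lfp ξ
    have := E₁.isPiece.finite
    have := E₁.isPiece.surjective
    rw [eτ]
    exact ⟨inferInstance, inferInstance, inferInstance, inferInstance⟩

theorem exists_separated_cover (h𝒳 : AlgSt.IsAlgStack Scheme.fppfPrecoverage 𝒳)
    (hΔ : AlgSt.RepByAlgSpWith AlgSp.IsSeparatedMor (FibCat.diag (FibCat.toSelf 𝒳)))
    [IsSeparated V.hom]
    (hv : AlgSt.RepByAlgSpWith
      (AlgSp.LocP (@Flat ⊓ @LocallyOfFinitePresentation ⊓ @LocallyQuasiFinite) ⊓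
        AlgSp.IsSurjectiveMor) v) :
    ∃ (𝒲 : AlgSt.Cat S) (h : 𝒲 ⥤ᵇ 𝒳) (Z : Over S) (z : FibCat.overCat Z ⥤ᵇ FibCat.fp v h),
      AlgSt.IsAlgStack Scheme.fppfPrecoverage 𝒲 ∧ AlgSt.IsSeparatedOver 𝒲 ∧
      AlgSt.RepByAlgSpWith (AlgSp.IsEtaleMor ⊓ AlgSp.IsSurjectiveMor) h ∧
      AlgSt.IsOpenImm z ∧
      AlgSt.RepByAlgSpWith
        (AlgSp.IsFiniteMor ⊓ AlgSp.LocP (@Flat ⊓ @LocallyOfFinitePresentation) ⊓ AlgSp.IsSurjectiveMor)
        (BasedFunctor.comp z (FibCat.fpSnd v h)) := by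
  have hX := h𝒳.isStack.1
  obtain ⟨G⟩ := exists_goodPts hX hΔ hv
  have hW := isFibGrpd_pieceCat G hX
  have surj : ∀ {A B : Over S} (g : A ⟶ B), Surjective g.left →
      AlgSp.IsSurjectiveMor ((AlgSp.yon S).map g) := fun g hg =>
    Groth.AlgSpBasic.surjective_map_of_repWith ((AlgSp.repWith_yon_map_iff _ g).2 hg)
  have hh : AlgSt.RepByAlgSpWith (AlgSp.IsEtaleMor ⊓ AlgSp.IsSurjectiveMor) (pieceForget G) :=
    repWith_of_charts fun U y => by
      obtain ⟨H, τ, L, hL, hα, he, -, hs⟩ := exists_piece_chart G hX y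
      exact ⟨H, τ, L, hL, hα, (AlgSp.isEtaleMor_yon_map_iff τ).2 he, surj τ hs⟩
  have hWst := isAlgStack_of_repByAlgSp1 hW h𝒳 (pieceForget G) (repWith_repByAlgSp1 hh)
  obtain ⟨Z, z, hsep, hz, hc⟩ := exists_finite_cover G hX
  have hw : AlgSt.RepByAlgSpWith
      (AlgSp.IsFiniteMor ⊓ AlgSp.LocP (@Flat ⊓ @LocallyOfFinitePresentation) ⊓ AlgSp.IsSurjectiveMor)
      (BasedFunctor.comp z (FibCat.fpSnd v (pieceForget G))) :=
    repWith_of_charts fun T y => by
      obtain ⟨X, τ, L, hL, hα, hf, hfl, hlf, hs⟩ := hc T y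
      refine ⟨X, τ, L, hL, hα, ⟨⟨?_, ?_⟩, surj τ hs⟩⟩
      · exact Groth.AlgSpBasic.isFiniteMor_iff_repWith.2 ((AlgSp.repWith_yon_map_iff _ τ).2 hf)
      · intro U V' a b k ha hb comm
        exact ⟨Groth.AlgSpBasic.locP_of_repWith ((AlgSp.repWith_yon_map_iff @Flat τ).2 hfl) a b k ha hb comm,
          Groth.AlgSpBasic.locP_of_repWith ((AlgSp.repWith_yon_map_iff @LocallyOfFinitePresentation τ).2 hlf)
            a b k ha hb comm⟩
  refine ⟨pieceCat G, pieceForget G, Z, z, hWst, ?_, hh, hz, hw⟩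
  have := hsep
  exact Groth.AlgStCover.isSeparatedOver_of_cover hWst (repByAlgSp_overCat Z)
    (repWith_sep_toSelf_overCat_of_isSeparated Z)
    (repWith_mono (fun _ _ _ _ _ h => Groth.AlgSpBasic.locP_mono (fun _ _ k hk => hk.1) h.1.2) hw)
    (repWith_mono (fun _ _ _ _ _ h => Groth.AlgSpBasic.locP_mono (fun _ _ k hk => hk.2) h.1.2) hw)
    (repWith_mono (fun _ _ _ _ _ h => h.2) hw)
    (repWith_mono (fun _ _ _ hA hB h => Groth.AlgSp2.isProperMor_of_isFiniteMor hA hB h.1.1) hw)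

end Groth.StkPieces
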