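import Groth.Agent.GitQuot.StkPieces.UPt
import Groth.Agent.GitQuot.StkSlice.Chart

/-!
# The base changes of a separated quasi-finite scheme chart are schemes
-/

set_option autoImplicit false
set_option backward.isDefEq.respectTransparency false
set_option backward.isDefEq.respectTransparency.types false

universe u

open CategoryTheory CategoryTheory.Limits AlgebraicGeometry
open Groth.StkBase Groth.AlgStBasic Groth.AlgSpBasic

noncomputable section

namespace Groth.StkPieces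

variable {S : Scheme.{u}}

theorem surjective_left {U V : Over S} (g : U ⟶ V)
    (h : AlgSp.IsSurjectiveMor ((AlgSp.yon S).map g)) : Surjective g.left := by
  refine ⟨fun x => ?_⟩
  obtain ⟨z, hz⟩ := h (AlgSp.Points.schemeHomeo V x)
  obtain ⟨w, rfl⟩ := (AlgSp.Points.schemeHomeo U).surjective z
  exact ⟨w, (AlgSp.Points.schemeHomeo V).injective
    ((AlgSp.Points.map_yon_map_apply g w).symm.trans hz)⟩

theorem repWith_sep_toSelf_overCat_of_isSeparated (U : Over S) [IsSeparated U.hom] :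
    AlgSt.RepByAlgSpWith AlgSp.IsSeparatedMor
      (FibCat.toSelf (FibCat.overCat U) : FibCat.overCat U ⥤ᵇ _) := by
  let A := Over.mk (𝟙 S)
  have hT : ∀ W, Nonempty (Unique (((AlgSp.pyon S).obj A).obj W)) := fun W =>
    ⟨⟨⟨⟨Over.homMk W.unop.hom (by simp [A])⟩⟩, fun x => by
      apply ULift.ext
      apply Over.OverMorphism.ext
      have := Over.w x.down
      simpa [A] using this⟩⟩
  have hE : FibCat.IsEquivOver (FibCat.toSelf (AlgSt.ofSch A)) :=
    isEquivOver_toSelf_ofPsh_of_unique _ hT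
  let u : U ⟶ A := Over.homMk U.hom
  have hs : AlgSp.IsSeparatedMor ((AlgSp.yon S).map u) :=
    (AlgSp.isSeparatedMor_yon_map_iff u).2 ‹_›
  have h1 : AlgSt.RepByAlgSpWith AlgSp.IsSeparatedMor (AlgSt.ofSpMap ((AlgSp.yon S).map u)) :=
    repWith_ofPshMap_of_stable (F := ⟨_, AlgSp.IsAlgSpace.yon_obj U⟩)
      (G := ⟨_, AlgSp.IsAlgSpace.yon_obj A⟩) stableBaseChange_sep _ hs
  exact (repWith_precomp_equiv (isEquivOver_toOverCat U) _).1
    (repWith_of_iso (Groth.StkSlice.selfIso _ _) ((repWith_postcomp_equiv _ hE).2 h1))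

variable {𝒳 : AlgSt.Cat S}

theorem prop_iso_comp {P : MorphismProperty (AlgSp.Sp S)} (hb : StableBaseChange P)
    {R : Over S} {F : AlgSp.Sp S} {U : Over S} (hF : AlgSp.IsAlgSpace F)
    (i : (AlgSp.yon S).obj R ≅ F) {f : F ⟶ (AlgSp.yon S).obj U} (hf : P f) : P (i.hom ≫ f) :=
  hb hF (AlgSp.IsAlgSpace.yon_obj U) (AlgSp.IsAlgSpace.yon_obj R) (AlgSp.IsAlgSpace.yon_obj U)
    f (𝟙 _) (i.hom ≫ f) i.hom (IsPullback.of_horiz_isIso ⟨by simp⟩) hf

/-- The base change of `v` to a scheme is a scheme, separated, flat and locally quasi-finite. -/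
theorem exists_fp_chart (hX : FibCat.IsFibGrpd 𝒳.p)
    (hΔ : AlgSt.RepByAlgSpWith AlgSp.IsSeparatedMor (FibCat.diag (FibCat.toSelf 𝒳)))
    {V : Over S} [IsSeparated V.hom] (v : FibCat.overCat V ⥤ᵇ 𝒳)
    (hv : AlgSt.RepByAlgSpWith
      (AlgSp.LocP (@Flat ⊓ @LocallyOfFinitePresentation ⊓ @LocallyQuasiFinite) ⊓
        AlgSp.IsSurjectiveMor) v)
    {U : Over S} (y : FibCat.overCat U ⥤ᵇ 𝒳) :
    ∃ (X : Over S) (π : X ⟶ U) (L : FibCat.overCat X ⥤ᵇ FibCat.fp y v),
      FibCat.IsEquivOver L ∧ Nonempty (BasedFunctor.comp L (FibCat.fpFst y v) ≅ AlgSt.overMap π) ∧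
        IsSeparated π.left ∧ Flat π.left ∧ LocallyOfFinitePresentation π.left ∧
          LocallyQuasiFinite π.left ∧ Surjective π.left := by
  obtain ⟨F, e, he, hp, hps⟩ := hv U y
  let t := FibCat.toSelf 𝒳
  have hsV : AlgSt.RepByAlgSpWith AlgSp.IsSeparatedMor (BasedFunctor.comp v t) :=
    repWith_of_iso (Groth.StkSlice.selfIso _ _) (repWith_sep_toSelf_overCat_of_isSeparated V)
  have hsep : AlgSt.RepByAlgSpWith AlgSp.IsSeparatedMor (FibCat.fpFst y v) := by
    have h2 : AlgSt.RepByAlgSpWith AlgSp.IsSeparatedMor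
        (BasedFunctor.comp (fpPost y v t)
          (FibCat.fpFst (BasedFunctor.comp y t) (BasedFunctor.comp v t))) :=
      repWith_comp' (isFibGrpd_fp (isFibGrpd_overCat U) (isFibGrpd_overCat V) hX)
        (isFibGrpd_fp (isFibGrpd_overCat U) (isFibGrpd_overCat V) isFibGrpd_selfOver)
        stableBaseChange_sep stableComp_sep
        (descendsAlongAtlas_of_isLocalOnBase isLocalOnBase_fppf_sep)
        (repWith_fpPost hΔ) (repWith_fpFst _ _ hsV)
    exact h2
  have := (stableBaseChange_sep (S := S)).respectsIso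
  have hsep' : AlgSp.IsSeparatedMor (AlgSt.spMapOfOver (BasedFunctor.comp e (FibCat.fpFst y v))) :=
    (prop_of_repFst (P := onSpaces AlgSp.IsSeparatedMor)
      (RepFst.mono (fun _ _ _ hA hB hp => ⟨hA, hB, hp⟩)
        (RepFst.of_equiv (isEquivOver_fpSnd_id (F := FibCat.fpFst y v))
          (FibCat.fpIso _ _).symm (hsep U (BasedFunctor.id _)))) F e he).2.2
  have hqf : AlgSp.LocP (@LocallyQuasiFinite ⊓ @LocallyOfFiniteType)
      (AlgSt.spMapOfOver (BasedFunctor.comp e (FibCat.fpFst y v))) :=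
    Groth.AlgSpBasic.locP_mono (fun _ _ k hk => ⟨hk.2,
      (have : LocallyOfFinitePresentation k := hk.1.2; inferInstance)⟩) hp
  obtain ⟨R, ⟨i⟩⟩ := exists_iso_of_separated_lqf F.property hqf hsep'
  let ψ := AlgSt.spMapOfOver (BasedFunctor.comp e (FibCat.fpFst y v))
  let Φ₀ := BasedFunctor.comp (AlgSt.ofSpMap i.hom) (BasedFunctor.comp e (FibCat.fpFst y v))
  obtain ⟨c, hc⟩ := (AlgSp.yon S).map_surjective (i.hom ≫ ψ)
  have hc₀ : (AlgSp.yon S).map c = AlgSt.spMapOfOver Φ₀ := by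
    rw [hc]
    apply ObjectProperty.hom_ext
    rw [spMapOfOver_hom_eq Φ₀]
    show i.hom.hom ≫ ψ.hom = _
    rw [spMapOfOver_hom_eq, ← pshMapOf_ofPshMap i.hom.hom, ← pshMapOf_comp]
    rfl
  obtain ⟨γ⟩ := StkRed.iso_overMap_of_spMap Φ₀ c hc₀
  have hcs : AlgSp.IsSeparatedMor ((AlgSp.yon S).map c) := by
    rw [hc]; exact prop_iso_comp stableBaseChange_sep F.property i hsep'
  have hcj : AlgSp.IsSurjectiveMor ((AlgSp.yon S).map c) := by
    rw [hc]; exact prop_iso_comp stableBaseChange_surjective F.property i hps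
  have hcP : ∀ (Q : MorphismProperty Scheme.{u}) [EtaleLocal Q],
      AlgSp.LocP Q ψ → Q c.left := fun Q _ hQ => by
    refine left_prop_of_locP_yon ?_
    rw [hc]; exact prop_iso_comp stableBaseChange_locP F.property i hQ
  refine ⟨R, c, BasedFunctor.comp (AlgSt.ofOverCat R) (BasedFunctor.comp (AlgSt.ofSpMap i.hom) e),
    isEquivOver_comp (isEquivOver_ofOverCat R) (isEquivOver_comp (AlgStImm.isEquivOver_ofSpMap i) he),
    ⟨γ⟩, (AlgSp.isSeparatedMor_yon_map_iff c).1 hcs, ?_, ?_, ?_, surjective_left c hcj⟩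
  · exact hcP @Flat (Groth.AlgSpBasic.locP_mono (fun _ _ k hk => hk.1.1) hp)
  · exact hcP @LocallyOfFinitePresentation (Groth.AlgSpBasic.locP_mono (fun _ _ k hk => hk.1.2) hp)
  · exact (hcP _ hqf).1

end Groth.StkPieces
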