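import Groth.Agent.GitQuot.StkPieces.Stack

/-!
# The stack of pieces is étale and surjective over the stack
-/

set_option autoImplicit false
set_option backward.isDefEq.respectTransparency false
set_option backward.isDefEq.respectTransparency.types false

universe u

open CategoryTheory CategoryTheory.Limits AlgebraicGeometry
open Groth.StkBase Groth.FppfBoot Groth.AlgStBasic

noncomputable section

namespace Groth.StkPieces

theorem surjective_pieceData {W U : Scheme.{u}} {f : W ⟶ U} [IsSeparated f] [Flat f]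
    [LocallyOfFinitePresentation f] [LocallyQuasiFinite f] [Surjective f]
    (P : QSplit.PieceData f) : Surjective P.π := by
  refine ⟨fun t => ?_⟩
  obtain ⟨x, hx⟩ := f.surjective t
  obtain ⟨U', g, u₀, -, hgu, -, hJ⟩ := exists_piece_split f t {x} (Set.finite_singleton x)
    (by rintro y rfl; exact hx)
  obtain ⟨w₀, hw₁, hw₂⟩ := Scheme.Pullback.exists_preimage_pullback (f := f) (g := g) x u₀
    (hx.trans hgu.symm)
  obtain ⟨Z, hfin, hZ⟩ := hJ {w₀} (by rintro w rfl; exact ⟨hw₂, hw₁⟩)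
  let O : U'.Opens :=
    ⟨pullback.snd f g '' (Z : Set ↑(pullback f g)), (pullback.snd f g).isOpenMap _ Z.2⟩
  have hu₀ : u₀ ∈ O := ⟨w₀, (hZ w₀ hw₂).2 rfl, hw₂⟩
  let c : pullback f (O.ι ≫ g) ⟶ pullback f g :=
    pullback.lift (pullback.fst _ _) (pullback.snd _ _ ≫ O.ι)
      (by rw [Category.assoc, pullback.condition])
  have sq : IsPullback c (pullback.snd f (O.ι ≫ g)) (pullback.snd f g) O.ι := by
    refine IsPullback.of_right ?_ (pullback.lift_snd _ _ _) (IsPullback.of_hasPullback f g)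
    rw [pullback.lift_fst]
    exact IsPullback.of_hasPullback f (O.ι ≫ g)
  have hp : IsPiece (pullback.snd f (O.ι ≫ g)) (c ⁻¹ᵁ Z) := by
    refine ⟨MorphismProperty.of_isPullback (isPullback_piece sq Z) hfin, ⟨fun o => ?_⟩⟩
    obtain ⟨z, hz, hzo⟩ := o.2
    obtain ⟨z', hz₁, hz₂⟩ := Scheme.exists_preimage_of_isPullback sq z o hzo
    refine ⟨⟨z', by change c z' ∈ Z; rw [hz₁]; exact hz⟩, ?_⟩
    rw [Scheme.Hom.comp_apply]
    exact hz₂
  obtain ⟨l, hl, -⟩ := P.lift' (O.ι ≫ g) _ hp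
  refine ⟨l ⟨u₀, hu₀⟩, ?_⟩
  rw [← Scheme.Hom.comp_apply, hl, Scheme.Hom.comp_apply]
  exact hgu

variable {S : Scheme.{u}} {𝒳 : AlgSt.Cat S} {V : Over S} {v : FibCat.overCat V ⥤ᵇ 𝒳}
  (G : GoodPts v)

theorem exists_piece_chart (hX : FibCat.IsFibGrpd 𝒳.p) {U : Over S} (y : FibCat.overCat U ⥤ᵇ 𝒳) :
    ∃ (H : Over S) (τ : H ⟶ U) (L : FibCat.overCat H ⥤ᵇ FibCat.fp y (pieceForget G)),
      FibCat.IsEquivOver L ∧
        Nonempty (BasedFunctor.comp L (FibCat.fpFst _ _) ≅ AlgSt.overMap τ) ∧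
        Etale τ.left ∧ IsSeparated τ.left ∧ Surjective τ.left := by
  let ξ := y.obj (idObj U)
  have eU : 𝒳.p.obj ξ = U := y.w_obj (idObj U)
  have hiso : IsIso (eqToHom eU).left := inferInstanceAs (IsIso ((Over.forget S).map (eqToHom eU)))
  let f : (G.D ξ).g.left.left ⟶ U.left := (G.D ξ).π.left ≫ (eqToHom eU).left
  have := G.separated ξ
  have := G.flat ξ
  have := G.lfp ξ
  have := G.lqf ξ
  have := G.surjective ξ
  obtain ⟨P⟩ := QSplit.exists_pieceData f
  let Hs : Over S := Over.mk (P.π ≫ U.hom)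
  let τ : Hs ⟶ U := Over.homMk P.π rfl
  have sqψ : ∀ {ξ' : 𝒳.obj} (ψ : ξ' ⟶ ξ),
      IsPullback (ptMap G.D ψ).left.left (G.D ξ').π.left f (𝒳.p.map ψ ≫ eqToHom eU).left := fun ψ => by
    have h := (isPullback_ptMap_scheme G hX ψ).paste_vert
      (IsPullback.of_vert_isIso (f := (eqToHom eU).left) (fst := (𝒳.p.map ψ).left) (snd := 𝟙 _)
        (g := (𝒳.p.map ψ ≫ eqToHom eU).left) ⟨(Category.id_comp _).symm⟩ : IsPullback (𝒳.p.map ψ).left (𝟙 _) (eqToHom eU).left
          (𝒳.p.map ψ ≫ eqToHom eU).left)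
    rwa [Category.comp_id] at h
  let a₀ : (FibCat.overCat U).obj := Over.mk τ
  let η := y.obj a₀
  have eH : 𝒳.p.obj η = Hs := y.w_obj a₀
  let ψ₀ : η ⟶ ξ := y.map (toId a₀)
  have hψ₀ : 𝒳.p.map ψ₀ ≫ eqToHom eU = eqToHom eH ≫ τ := by
    rw [map_map]
    simp
    rfl
  let lH : (𝒳.p.obj η).left ⟶ P.H := (eqToHom eH).left
  have hlH : lH ≫ P.π = (𝒳.p.map ψ₀ ≫ eqToHom eU).left := by
    rw [hψ₀]; rfl
  let E₀ : PObj G := ⟨η, clMap P (sqψ ψ₀) lH hlH ⁻¹ᵁ P.Z, isPiece_clMap P _ _ _⟩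
  let z₀ : (FibCat.fp y (pieceForget G)).obj :=
    fpMk (F := y) (G := pieceForget G) a₀ E₀ (Iso.refl _) (isVert_id _)
  have hfp : FibCat.IsFibSetoid (FibCat.fp y (pieceForget G)).p :=
    isFibSetoid_fp_of_faithful (isFibGrpd_pieceCat G hX) hX (pieceForget G) y
  have hterm : ∀ z : (FibCat.fp y (pieceForget G)).obj, ∃! χ : z ⟶ z₀, True := by
    intro z
    have hz := fp_p_snd z
    obtain ⟨⟨⟨T, ⟨⟨⟩⟩, a⟩, b, e₀⟩, he₀⟩ := z
    obtain rfl : 𝒳.p.obj b.obj = T := hz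
    have hev : 𝒳.p.map e₀.inv = eqToHom (fp_isVert (F := y) (G := pieceForget G) ⟨_, he₀⟩).obj_eq.symm :=
      (IsVert.inv (fp_isVert (F := y) (G := pieceForget G) ⟨_, he₀⟩)).map_eq
    let ψ : b.obj ⟶ ξ := e₀.inv ≫ y.map (toId (Over.mk a))
    have hψ : 𝒳.p.map ψ ≫ eqToHom eU = a := by
      rw [Functor.map_comp, map_map, hev]
      simp
      rfl
    have key : ∀ (q : 𝒳.p.obj b.obj ⟶ Hs) (w : q ≫ τ = a) (h : q.left ≫ P.π = (𝒳.p.map ψ ≫ eqToHom eU).left),
        (ptMap G.D (e₀.inv ≫ y.map (Over.homMk q w : Over.mk a ⟶ a₀))).left.left ⁻¹ᵁ E₀.piece =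
          clMap P (sqψ ψ) q.left h ⁻¹ᵁ P.Z := by
      intro q w h
      let f₁ : b.obj ⟶ η := e₀.inv ≫ y.map (Over.homMk q w : Over.mk a ⟶ a₀)
      have h₁ : f₁ ≫ ψ₀ = ψ := by
        show (e₀.inv ≫ y.map _) ≫ y.map _ = _
        rw [Category.assoc, ← Functor.map_comp, toId_naturality]
        rfl
      have h₂ : 𝒳.p.map f₁ ≫ eqToHom eH = q := by
        rw [Functor.map_comp, map_map, hev]
        simp
        rfl
      have hm : (ptMap G.D f₁).left.left ≫ clMap P (sqψ ψ₀) lH hlH = clMap P (sqψ ψ) q.left h := by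
        apply pullback.hom_ext
        · show (_ ≫ pullback.lift _ _ _) ≫ pullback.fst _ _ = pullback.lift _ _ _ ≫ pullback.fst _ _
          rw [Category.assoc, pullback.lift_fst, pullback.lift_fst, ← Over.comp_left, ← Over.comp_left,
            ← ptMap_comp, h₁]
        · show (_ ≫ pullback.lift _ _ _) ≫ pullback.snd _ _ = pullback.lift _ _ _ ≫ pullback.snd _ _
          rw [Category.assoc, pullback.lift_snd, pullback.lift_snd, ← h₂,
            (isPullback_ptMap_scheme G hX f₁).w_assoc]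
          rfl
      rw [← hm]
      rfl
    obtain ⟨l, hl, hle⟩ := clMap_exists P (sqψ ψ) b.piece b.isPiece
    let q : 𝒳.p.obj b.obj ⟶ Hs := Over.homMk l (by
      show l ≫ P.π ≫ U.hom = _
      rw [reassoc_of% hl, hψ]
      exact Over.w a)
    have hq : q ≫ τ = a := Over.OverMorphism.ext (hl.trans (congrArg Over.Hom.left hψ))
    let n : (Over.mk a : (FibCat.overCat U).obj) ⟶ a₀ := Over.homMk q hq
    let snd : b ⟶ E₀ := ⟨e₀.inv ≫ y.map n, (key q hq hl).trans hle⟩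
    refine ⟨fpHom (F := y) (G := pieceForget G) n snd ?_, trivial, fun χ _ => ?_⟩
    · show y.map n ≫ 𝟙 _ = e₀.hom ≫ e₀.inv ≫ y.map n
      simp
    · have hw : χ.hom.snd.hom = e₀.inv ≫ y.map χ.hom.fst := by
        have := χ.hom.w
        exact (Iso.eq_inv_comp _).2 ((Category.comp_id _).symm.trans this).symm
      have hfst : χ.hom.fst = n := by
        obtain ⟨q', w', hq'⟩ : ∃ q' w', χ.hom.fst = (Over.homMk q' w' : Over.mk a ⟶ a₀) :=
          ⟨χ.hom.fst.left, Over.w χ.hom.fst, rfl⟩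
        have hcl : q'.left ≫ P.π = (𝒳.p.map ψ ≫ eqToHom eU).left :=
          congrArg Over.Hom.left (w'.trans hψ.symm)
        have e : clMap P (sqψ ψ) q'.left hcl ⁻¹ᵁ P.Z = b.piece := by
          rw [← key q' w' hcl, ← hq', ← hw]
          exact χ.hom.snd.map_piece
        have := clMap_inj P (sqψ ψ) q'.left l hcl hl (e.trans hle.symm)
        rw [hq']
        exact Over.OverMorphism.ext (Over.OverMorphism.ext this)
      refine fp_hom_ext hfst (PObj.hom_ext ?_)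
      rw [hw, hfst]
      rfl
  obtain ⟨L, hL, i, hi⟩ := isEquivOver_of_isTerminal (X := Hs) hfp (z₀ := z₀) rfl hterm
  refine ⟨Hs, τ, L, hL, ?_, P.etale, P.separated, surjective_pieceData P⟩
  refine (nonempty_overIso_iff (isFibGrpd_overCat U) _ _).2 ⟨i.hom.hom.fst ≫ eqToHom ?_, ?_⟩
  · exact congrArg Over.mk (Category.id_comp _).symm
  · exact ((isVert_fp_iff i.hom).1 hi).comp (isVert_eqToHom _)

end Groth.StkPieces
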