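import Groth.Agent.GitQuot.StkPieces.OverMap

/-!
# The scheme of points of a chart over an object of a stack
-/

set_option autoImplicit false
set_option backward.isDefEq.respectTransparency false
set_option backward.isDefEq.respectTransparency.types false

universe u

open CategoryTheory CategoryTheory.Limits AlgebraicGeometry
open Groth.StkBase

noncomputable section

namespace Groth.StkPieces

variable {S : Scheme.{u}} {𝒳 : AlgSt.Cat S} {V : Over S} (v : FibCat.overCat V ⥤ᵇ 𝒳)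

/-- A universal point of `v` over the object `ξ`. -/
structure UPt (ξ : 𝒳.obj) where
  /-- the scheme of points, over `V` -/
  g : (FibCat.overCat V).obj
  /-- the universal point -/
  φ : v.obj g ⟶ ξ
  univ : ∀ (g' : (FibCat.overCat V).obj) (φ' : v.obj g' ⟶ ξ), ∃! m : g' ⟶ g, v.map m ≫ φ = φ'

variable {v}

/-- The structure map of the scheme of points. -/
def UPt.π {ξ : 𝒳.obj} (D : UPt v ξ) : D.g.left ⟶ 𝒳.p.obj ξ :=
  eqToHom (v.w_obj D.g).symm ≫ 𝒳.p.map D.φ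

/-- A chosen universal point over every object. -/
abbrev UPts (v : FibCat.overCat V ⥤ᵇ 𝒳) := ∀ ξ : 𝒳.obj, UPt v ξ

variable (D : UPts v)

/-- The map of schemes of points induced by a morphism of objects. -/
def ptMap {ξ' ξ : 𝒳.obj} (f : ξ' ⟶ ξ) : (D ξ').g ⟶ (D ξ).g :=
  ((D ξ).univ _ ((D ξ').φ ≫ f)).choose

theorem ptMap_φ {ξ' ξ : 𝒳.obj} (f : ξ' ⟶ ξ) :
    v.map (ptMap D f) ≫ (D ξ).φ = (D ξ').φ ≫ f :=
  ((D ξ).univ _ ((D ξ').φ ≫ f)).choose_spec.1

theorem ptMap_unique {ξ' ξ : 𝒳.obj} {f : ξ' ⟶ ξ} {m : (D ξ').g ⟶ (D ξ).g}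
    (h : v.map m ≫ (D ξ).φ = (D ξ').φ ≫ f) : m = ptMap D f :=
  ((D ξ).univ _ ((D ξ').φ ≫ f)).choose_spec.2 m h

theorem ptMap_id (ξ : 𝒳.obj) : ptMap D (𝟙 ξ) = 𝟙 _ :=
  (ptMap_unique D (by simp)).symm

theorem ptMap_comp {ξ'' ξ' ξ : 𝒳.obj} (f : ξ'' ⟶ ξ') (f' : ξ' ⟶ ξ) :
    ptMap D (f ≫ f') = ptMap D f ≫ ptMap D f' :=
  (ptMap_unique D (by
    rw [Functor.map_comp, Category.assoc, ptMap_φ, ← Category.assoc, ptMap_φ, Category.assoc])).symm

theorem ptMap_π {ξ' ξ : 𝒳.obj} (f : ξ' ⟶ ξ) :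
    (ptMap D f).left ≫ (D ξ).π = (D ξ').π ≫ 𝒳.p.map f := by
  have h := congrArg 𝒳.p.map (ptMap_φ D f)
  rw [Functor.map_comp, Functor.map_comp, map_map] at h
  simp only [UPt.π, Category.assoc, ← h]
  simp
  rfl

theorem isPullback_ptMap (hX : FibCat.IsFibGrpd 𝒳.p) {ξ' ξ : 𝒳.obj} (f : ξ' ⟶ ξ) :
    IsPullback (ptMap D f).left (D ξ').π (D ξ).π (𝒳.p.map f) := by
  have key : ∀ (T : Over S) (k : T ⟶ (D ξ).g.left) (r : T ⟶ 𝒳.p.obj ξ'),
      k ≫ (D ξ).π = r ≫ 𝒳.p.map f →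
      ∃! l : T ⟶ (D ξ').g.left, l ≫ (ptMap D f).left = k ∧ l ≫ (D ξ').π = r := by
    intro T k r h
    let g'' : (FibCat.overCat V).obj := Over.mk (k ≫ (D ξ).g.hom)
    let m₀ : g'' ⟶ (D ξ).g := Over.homMk k rfl
    have hm₀ : eqToHom (v.w_obj g'').symm ≫ 𝒳.p.map (v.map m₀) = k ≫ eqToHom (v.w_obj (D ξ).g).symm := by
      rw [map_map]
      simp
      rfl
    have hb : (eqToHom (v.w_obj g'') ≫ r) ≫ 𝒳.p.map f = 𝒳.p.map (v.map m₀ ≫ (D ξ).φ) := by
      rw [← cancel_epi (eqToHom (v.w_obj g'').symm)]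
      have h' := congrArg (· ≫ 𝒳.p.map (D ξ).φ) hm₀
      simp only [Category.assoc] at h'
      rw [Functor.map_comp, h']
      simpa [UPt.π] using h.symm
    let φ'' := factor hX f (v.map m₀ ≫ (D ξ).φ) _ hb
    obtain ⟨m', hm', hu⟩ := (D ξ').univ g'' φ''
    have hb' : 𝒳.p.map φ'' = eqToHom (v.w_obj g'') ≫ r := factor_map hX _ _ _ hb
    refine ⟨m'.left, ⟨?_, ?_⟩, ?_⟩
    · have : m' ≫ ptMap D f = m₀ := by
        refine ((D ξ).univ g'' (v.map m₀ ≫ (D ξ).φ)).unique ?_ rfl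
        rw [Functor.map_comp, Category.assoc, ptMap_φ, ← Category.assoc, hm']
        exact factor_comp hX _ _ _ hb
      exact congrArg (fun m : g'' ⟶ (D ξ).g => m.left) this
    · have := congrArg 𝒳.p.map hm'
      rw [Functor.map_comp, map_map, hb'] at this
      rw [← cancel_epi (eqToHom (v.w_obj g'')), ← this]
      simp [UPt.π]
      rfl
    · rintro l ⟨hl₁, hl₂⟩
      have hw : l ≫ (D ξ').g.hom = g''.hom := by
        rw [← Over.w (ptMap D f), reassoc_of% hl₁]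
        rfl
      let n : g'' ⟶ (D ξ').g := Over.homMk l hw
      have hn : n = m' := by
        refine hu n (hom_eq_of_comp_eq hX f ?_ ?_)
        · rw [hb', ← cancel_epi (eqToHom (v.w_obj g'').symm), Functor.map_comp, map_map]
          simp only [Category.assoc, eqToHom_trans_assoc, eqToHom_refl, Category.id_comp]
          rw [← hl₂]
          rfl
        · rw [Category.assoc, ← ptMap_φ, ← Category.assoc, ← Functor.map_comp,
            show n ≫ ptMap D f = m₀ from Over.OverMorphism.ext hl₁]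
          exact (factor_comp hX _ _ _ hb).symm
      exact congrArg (fun m : g'' ⟶ (D ξ').g => m.left) hn
  refine ⟨⟨ptMap_π D f⟩, ⟨PullbackCone.IsLimit.mk (ptMap_π D f)
    (fun s => (key s.pt s.fst s.snd s.condition).exists.choose)
    (fun s => (key s.pt s.fst s.snd s.condition).exists.choose_spec.1)
    (fun s => (key s.pt s.fst s.snd s.condition).exists.choose_spec.2)
    (fun s m h₁ h₂ => (key s.pt s.fst s.snd s.condition).unique ⟨h₁, h₂⟩
      (key s.pt s.fst s.snd s.condition).exists.choose_spec)⟩⟩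

/-- An equivalence of a slice category with `ξ ×_𝒳 V` gives a universal point. -/
theorem exists_uPt (hX : FibCat.IsFibGrpd 𝒳.p) {ξ : 𝒳.obj} {X : Over S} (π : X ⟶ 𝒳.p.obj ξ)
    (L : FibCat.overCat X ⥤ᵇ
      FibCat.fp (overFunctor hX ξ (rfl : 𝒳.p.obj ξ = 𝒳.p.obj ξ)) v)
    (hL : FibCat.IsEquivOver L)
    (hfst : BasedFunctor.comp L (FibCat.fpFst _ _) ≅ AlgSt.overMap π) :
    ∃ D : UPt v ξ, ∃ e : X ≅ D.g.left, e.hom ≫ D.π = π := by
  let y := overFunctor hX ξ (rfl : 𝒳.p.obj ξ = 𝒳.p.obj ξ)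
  obtain ⟨i, hi⟩ := overFunctor_eval hX ξ (rfl : 𝒳.p.obj ξ = 𝒳.p.obj ξ)
  let z₀ := L.obj (idObj X)
  let ψ : ∀ b : (FibCat.overCat (𝒳.p.obj ξ)).obj, y.obj b ⟶ ξ := fun b => y.map (toId b) ≫ i.hom
  have hψ : ∀ b, 𝒳.p.map (ψ b) = eqToHom (y.w_obj b) ≫ b.hom := fun b => by
    rw [Functor.map_comp, map_map, hi.map_eq]
    simp
    rfl
  have hψn : ∀ {b b' : (FibCat.overCat (𝒳.p.obj ξ)).obj} (f : b ⟶ b'), y.map f ≫ ψ b' = ψ b := fun f => by
    show y.map f ≫ y.map (toId _) ≫ i.hom = y.map (toId _) ≫ i.hom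
    rw [← Functor.map_comp_assoc, toId_naturality]
  let φ : v.obj z₀.obj.snd ⟶ ξ := z₀.obj.iso.inv ≫ ψ z₀.obj.fst
  have huniv : ∀ (g' : (FibCat.overCat V).obj) (φ' : v.obj g' ⟶ ξ),
      ∃! m : g' ⟶ z₀.obj.snd, v.map m ≫ φ = φ' := by
    intro g' φ'
    let r : g'.left ⟶ 𝒳.p.obj ξ := eqToHom (v.w_obj g').symm ≫ 𝒳.p.map φ'
    obtain ⟨e, he, hee⟩ := exists_vert_iso_of_lifts hX (ψ (Over.mk r)) φ'
      ((y.w_obj (Over.mk r)).trans (v.w_obj g').symm) (by rw [hψ]; simp [r])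
    let z : (FibCat.fp y v).obj := fpMk (F := y) (G := v) (Over.mk r) g' e he
    obtain ⟨χ, -, hχ⟩ := unique_hom_of_isEquivOver hL z
    refine ⟨χ.hom.snd, ?_, fun m hm => ?_⟩
    · show v.map χ.hom.snd ≫ z₀.obj.iso.inv ≫ ψ z₀.obj.fst = φ'
      have w : y.map χ.hom.fst ≫ z₀.obj.iso.hom = e.hom ≫ v.map χ.hom.snd := χ.hom.w
      rw [← cancel_epi e.hom, ← Category.assoc, ← w, hee, Category.assoc, Iso.hom_inv_id_assoc]
      exact hψn _
    · have hz : (FibCat.overCat V).p.obj z₀.obj.snd = (FibCat.overCat (𝒳.p.obj ξ)).p.obj z₀.obj.fst :=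
        fp_p_snd z₀
      let k : g'.left ⟶ z₀.obj.fst.left := m.left ≫ eqToHom hz
      have hφp : 𝒳.p.map φ = eqToHom (v.w_obj z₀.obj.snd) ≫ eqToHom hz ≫ z₀.obj.fst.hom := by
        rw [Functor.map_comp, hψ, (IsVert.inv (fp_isVert z₀)).map_eq]
        simp
      have hk : k ≫ z₀.obj.fst.hom = r := by
        simp only [r, k, ← hm, Functor.map_comp, map_map, hφp, Category.assoc, eqToHom_trans_assoc,
          eqToHom_refl, Category.id_comp]
        rfl
      let n : (Over.mk r : (FibCat.overCat (𝒳.p.obj ξ)).obj) ⟶ z₀.obj.fst := Over.homMk k hk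
      have hn : (FibCat.overCat (𝒳.p.obj ξ)).p.map n = m.left ≫ eqToHom hz := rfl
      have hm' : (FibCat.overCat V).p.map m = m.left := rfl
      have hw : y.map n ≫ z₀.obj.iso.hom = e.hom ≫ v.map m := by
        apply hom_eq_of_comp_eq hX φ
        · rw [Functor.map_comp, Functor.map_comp, map_map, map_map, (fp_isVert z₀).map_eq, he.map_eq,
            hn, hm']
          simp
        · rw [Category.assoc, Category.assoc, hm, hee]
          exact (congrArg (y.map n ≫ ·) (Iso.hom_inv_id_assoc z₀.obj.iso (ψ z₀.obj.fst))).trans (hψn n)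
      exact congrArg (fun t : z ⟶ z₀ => t.hom.snd) (hχ (fpHom n m hw) trivial)
  refine ⟨⟨z₀.obj.snd, φ, huniv⟩, ?_⟩
  have hX₀ : z₀.obj.fst.left = X := L.w_obj (idObj X)
  have hz : z₀.obj.snd.left = z₀.obj.fst.left := fp_p_snd z₀
  have hp : z₀.obj.fst.hom = eqToHom hX₀ ≫ π := by
    let a := (isoApp hfst (idObj X)).hom
    have h1 : a.left = eqToHom hX₀ := (isVert_isoApp hfst (idObj X)).map_eq
    have h2 := Over.w a
    rw [h1] at h2
    exact h2.symm.trans (congrArg (eqToHom hX₀ ≫ ·) (Category.id_comp π))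
  refine ⟨eqToIso (hX₀.symm.trans hz.symm), ?_⟩
  simp only [UPt.π, φ, eqToIso.hom, Functor.map_comp, hψ, (IsVert.inv (fp_isVert z₀)).map_eq, hp]
  simp

end Groth.StkPieces
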